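import Groth.Agent.HensDvrCdLib.Strict
import Groth.Agent.LocAcycBCLib.Alg
import Groth.Agent.CommAlgDim.Regular
import Groth.Agent.CommAlgDim.GlobalDim
import Groth.Agent.KaehlerFlatLib.Basic
import Groth.Agent.JacFSLib.GeomReg
import Groth.Agent.GeomRedFibLib.GRing
import Groth.Agent.GeomRedFibLib.GeomApps
import Mathlib.RingTheory.DedekindDomain.Dvr
import Mathlib.RingTheory.Flat.TorsionFree
import Mathlib.RingTheory.TensorProduct.Quotient

/-!
# A strictly henselian DVR mapping regularly onto a regular parameter
-/

set_option autoImplicit false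
set_option linter.all false
set_option backward.isDefEq.respectTransparency false
set_option backward.isDefEq.respectTransparency.types false
set_option synthInstance.maxHeartbeats 400000
set_option maxHeartbeats 1000000

universe u

open IsLocalRing TensorProduct

noncomputable section

namespace EtRegAcycLib

section Reg

variable {V A : Type u} [CommRing V] [IsDomain V] [IsDiscreteValuationRing V] [CharZero (ResidueField V)]
  [CommRing A] [IsRegularLocalRing A] [Algebra V A]

/-- A DVR whose uniformizer becomes a regular parameter maps regularly. -/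
theorem isRegularHom_of_dvr (π : V) (hπ : Irreducible π) (hx : algebraMap V A π ∈ maximalIdeal A)
    (hx2 : algebraMap V A π ∉ maximalIdeal A ^ 2) : CAlg.IsRegularHom V A := by
  haveI : IsDomain A := CommAlgDim.isDomain_of_isRegularLocalRing A
  have hx0 : algebraMap V A π ≠ 0 := fun h => hx2 (by rw [h]; exact zero_mem _)
  have hinj : Function.Injective (algebraMap V A) := by
    rw [injective_iff_map_eq_zero]
    intro a ha
    by_contra h
    obtain ⟨n, v, rfl⟩ := IsDiscreteValuationRing.eq_unit_mul_pow_irreducible h hπ
    rw [map_mul, map_pow] at ha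
    exact mul_ne_zero (v.isUnit.map (algebraMap V A)).ne_zero (pow_ne_zero n hx0) ha
  haveI : FaithfulSMul V A := (faithfulSMul_iff_algebraMap_injective V A).2 hinj
  haveI : Module.IsTorsionFree V A := inferInstance
  refine ⟨inferInstance, fun p _ => ?_⟩
  haveI := GeomRedFibLib.isNoetherianRing_fiber V A p
  haveI : IsRegularRing A := CommAlgDim.isRegularRing_of_isRegularLocalRing A
  haveI : CharZero V := ⟨fun a b h => by
    have := congrArg (residue V) h
    rwa [map_natCast, map_natCast, Nat.cast_inj] at this⟩
  haveI : IsRegularRing (p.Fiber A) := by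
    by_cases hp : p = ⊥
    · subst hp
      let K := (⊥ : Ideal V).ResidueField
      have hker : Function.Injective (algebraMap V K) := by
        rw [injective_iff_map_eq_zero]
        intro a ha
        exact (Ideal.algebraMap_residueField_eq_zero).1 ha
      haveI : FaithfulSMul V K := (faithfulSMul_iff_algebraMap_injective V K).2 hker
      haveI : IsFractionRing V K := IsFractionRing.of_field V K fun z => by
        obtain ⟨a, s, -, rfl⟩ := IsFractionRing.div_surjective (A := V ⧸ (⊥ : Ideal V)) z
        obtain ⟨a, rfl⟩ := Ideal.Quotient.mk_surjective a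
        obtain ⟨s, rfl⟩ := Ideal.Quotient.mk_surjective s
        exact ⟨a, s, rfl⟩
      haveI : IsLocalization (Algebra.algebraMapSubmonoid A (nonZeroDivisors V)) (A ⊗[V] K) := inferInstance
      haveI : IsRegularRing (A ⊗[V] K) :=
        JacFSLib.isRegularRing_of_isLocalization (R := A) (Algebra.algebraMapSubmonoid A (nonZeroDivisors V))
      exact IsRegularRing.of_ringEquiv (Algebra.TensorProduct.comm V A K).toRingEquiv
    · haveI : p.IsMaximal := Ideal.IsPrime.isMaximal inferInstance hp
      have hpm : p = Ideal.span {π} := (IsLocalRing.eq_maximalIdeal inferInstance).trans hπ.maximalIdeal_eq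
      haveI : IsRegularLocalRing (A ⧸ p.map (algebraMap V A)) := by
        rw [hpm, Ideal.map_span, Set.image_singleton]
        exact CommAlgDim.isRegularLocalRing_quotient_singleton hx hx2
      haveI : IsRegularRing (A ⧸ p.map (algebraMap V A)) := CommAlgDim.isRegularRing_of_isRegularLocalRing _
      let κ : (V ⧸ p) ≃ₐ[V] p.ResidueField :=
        AlgEquiv.ofBijective (IsScalarTower.toAlgHom V (V ⧸ p) p.ResidueField)
          p.bijective_algebraMap_quotient_residueField
      exact IsRegularRing.of_ringEquiv (((Algebra.TensorProduct.quotIdealMapEquivTensorQuot A p).toRingEquiv.trans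
        (Algebra.TensorProduct.comm V A (V ⧸ p)).toRingEquiv).trans
        (Algebra.TensorProduct.congr κ AlgEquiv.refl).toRingEquiv)
  haveI : CharZero p.ResidueField := ⟨fun a b h => by
    rw [← map_natCast (algebraMap V p.ResidueField), ← map_natCast (algebraMap V p.ResidueField),
      ← sub_eq_zero, ← map_sub, Ideal.algebraMap_residueField_eq_zero] at h
    have hle := (IsLocalRing.le_maximalIdeal (J := p) (Ideal.IsPrime.ne_top inferInstance)) h
    have := (IsLocalRing.residue_eq_zero_iff _).2 hle
    rwa [map_sub, sub_eq_zero, map_natCast, map_natCast, Nat.cast_inj] at this⟩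
  haveI : PerfectField p.ResidueField := inferInstance
  exact ⟨inferInstance, KaehlerFlatLib.isGeometricallyRegular_of_perfect⟩

end Reg

/-- A strictly henselian DVR sending a uniformizer to a given regular parameter. -/
theorem exists_dvr_source (A : Type u) [CommRing A] [IsRegularLocalRing A] [HenselianLocalRing A]
    [IsSepClosed (ResidueField A)] [Algebra ℚ A] (x : A) (hx : x ∈ maximalIdeal A) :
    ∃ (V : Type u) (_ : CommRing V) (_ : IsDomain V) (_ : IsDiscreteValuationRing V) (_ : HenselianLocalRing V)
      (_ : IsSepClosed (ResidueField V)) (_ : CharZero (ResidueField V)) (π : V) (f : V →+* A),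
      Irreducible π ∧ IsLocalHom f ∧ f π = x := by
  let k := ULift.{u} ℚ
  let P := Polynomial k
  let c : k →+* A := (algebraMap ℚ A).comp ULift.ringEquiv.toRingHom
  let p : Ideal P := Ideal.span {Polynomial.X}
  haveI hp : p.IsPrime := (Ideal.span_singleton_prime Polynomial.X_ne_zero).2 Polynomial.prime_X
  let R := Localization.AtPrime p
  have hp0 : p ≠ ⊥ := fun h => Polynomial.X_ne_zero (Ideal.span_singleton_eq_bot.1 h)
  haveI : IsDiscreteValuationRing R := IsLocalization.AtPrime.isDiscreteValuationRing_of_dedekind_domain P hp0 R
  let t : R := algebraMap P R Polynomial.X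
  have hmax : maximalIdeal R = Ideal.span {t} := by
    rw [← Localization.AtPrime.map_eq_maximalIdeal, Ideal.map_span, Set.image_singleton]
  have ht : t ≠ 0 := IsLocalization.to_map_ne_zero_of_mem_nonZeroDivisors R p.primeCompl_le_nonZeroDivisors
    (mem_nonZeroDivisors_of_ne_zero Polynomial.X_ne_zero)
  let e : P →+* A := Polynomial.eval₂RingHom c x
  have he : ∀ g : p.primeCompl, IsUnit (e g) := fun g => by
    have h0 : (g : P).coeff 0 ≠ 0 := fun h => g.2 (Ideal.mem_span_singleton.2 (Polynomial.X_dvd_iff.2 h))
    by_contra hu
    have hg : e g = c ((g : P).coeff 0) + x * e (g : P).divX := by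
      conv_lhs => rw [← Polynomial.X_mul_divX_add (g : P)]
      rw [map_add, map_mul, add_comm]
      show Polynomial.eval₂ c x (Polynomial.C _) + Polynomial.eval₂ c x Polynomial.X * _ = _
      rw [Polynomial.eval₂_C, Polynomial.eval₂_X]
    have hc : IsUnit (c ((g : P).coeff 0)) := (IsUnit.mk0 _ h0).map c
    refine hu ?_
    rw [hg]
    by_contra hu'
    have h1 : c ((g : P).coeff 0) ∈ maximalIdeal A := by
      have := Ideal.sub_mem _ ((mem_maximalIdeal _).2 hu') (Ideal.mul_mem_right (e (g : P).divX) _ hx)
      rwa [add_sub_cancel_right] at this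
    exact (mem_maximalIdeal _).1 h1 hc
  let f₀ : R →+* A := IsLocalization.lift he
  have hft : f₀ t = x := (IsLocalization.lift_eq he Polynomial.X).trans (Polynomial.eval₂_X c x)
  haveI : IsLocalHom f₀ := ⟨fun r hr => by
    by_contra hu
    have h1 : r ∈ maximalIdeal R := hu
    rw [hmax, Ideal.mem_span_singleton] at h1
    obtain ⟨s, rfl⟩ := h1
    rw [map_mul, hft] at hr
    exact (mem_maximalIdeal _).1 hx (isUnit_of_mul_isUnit_left hr)⟩
  let V := HenselLib.SH R
  have hS : Hensel.IsStrictHenselization R V := inferInstance
  haveI := hS.henselian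
  haveI : IsSepClosed (ResidueField V) := hS.isSepClosure.sep_closed
  haveI : IsNoetherianRing V := (Groth.Agent.S0540.result R V).1 inferInstance
  have hmV : maximalIdeal V = Ideal.span {algebraMap R V t} := by
    rw [← PairHensLib.map_maximalIdeal_of_isStrictHenselization R V, hmax, Ideal.map_span, Set.image_singleton]
  haveI : Module.Flat R V := HenselLib.flat_hens (HenselLib.ker_scθ R)
  have hreg : algebraMap R V t ∈ nonZeroDivisors V := by
    rw [mem_nonZeroDivisors_iff_right]
    intro y hy
    exact (Module.Flat.isSMulRegular_of_isRegular (M := V) (isRegular_of_ne_zero ht)).right_eq_zero_of_smul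
      (by rw [Algebra.smul_def, mul_comm]; exact hy)
  obtain ⟨hd, hv⟩ := HensDvrCdLib.isDomain_dvr V (algebraMap R V t) hmV hreg
  obtain ⟨f, hfl, hf⟩ := LocAcycBCLib.exists_lift (O := R) (R := V) f₀
  haveI : CharZero k := charZero_of_injective_ringHom (ULift.ringEquiv.symm : ℚ ≃+* k).toRingHom.injective
  have hcz : CharZero (ResidueField V) :=
    charZero_of_injective_ringHom ((ResidueField.map (algebraMap R V)).comp
      ((residue R).comp ((algebraMap P R).comp Polynomial.C))).injective
  refine ⟨V, inferInstance, hd, hv, inferInstance, inferInstance, hcz, algebraMap R V t, f,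
    (IsDiscreteValuationRing.irreducible_iff_uniformizer _).2 hmV, hfl, ?_⟩
  exact (RingHom.congr_fun hf t).trans hft

end EtRegAcycLib
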