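import Groth.Agent.EtRegAcycLib.Strict
import Groth.Agent.EtRegAcycLib.DvrReg
import Groth.Agent.LocAcycPointLib.Main
import Groth.Agent.MuConstLib.Main
import Groth.Agent.EtPBCProperLib.Surj2
import Groth.Agent.S4165
import Mathlib.Algebra.Category.Ring.Constructions

/-!
# Purity for one regular parameter over `ℚ`
-/

set_option autoImplicit false
set_option linter.all false
set_option backward.isDefEq.respectTransparency false
set_option backward.isDefEq.respectTransparency.types false
set_option synthInstance.maxHeartbeats 400000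
set_option maxHeartbeats 1600000

universe u

open CategoryTheory CategoryTheory.Limits AlgebraicGeometry Opposite IsLocalRing
open Groth.Agent Groth.Agent.EtShLib

noncomputable section

namespace EtRegAcycLib

attribute [local instance] EtSliceLib.pullExact

/-- Inverting a uniformizer gives the fraction field. -/
theorem isFractionRing_away {V : Type u} [CommRing V] [IsDomain V] [IsDiscreteValuationRing V] (π : V)
    (hπ : Irreducible π) : IsFractionRing V (Localization.Away π) := by
  refine IsLocalization.of_le_of_exists_dvd (Submonoid.powers π) (nonZeroDivisors V)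
    (Submonoid.powers_le.2 (mem_nonZeroDivisors_of_ne_zero hπ.ne_zero)) fun a ha => ?_
  obtain ⟨n, v, rfl⟩ := IsDiscreteValuationRing.eq_unit_mul_pow_irreducible (nonZeroDivisors.ne_zero ha) hπ
  exact ⟨π ^ n, ⟨n, rfl⟩, ⟨↑v⁻¹, by rw [mul_comm (v : V), mul_assoc, v.mul_inv, mul_one]⟩⟩

/-- The punctured spectrum along a regular parameter has cohomological dimension one. -/
theorem subsingleton_H_punctured (A : Type u) [CommRing A] [IsRegularLocalRing A] [HenselianLocalRing A]
    [IsSepClosed (ResidueField A)] [Algebra ℚ A] (x : A) (hx : x ∈ maximalIdeal A) (hx2 : x ∉ maximalIdeal A ^ 2)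
    (n : ℕ) (hn : 0 < n) (q : ℕ) (hq : 2 ≤ q) :
    Subsingleton (EtCoh.H (Spec (CommRingCat.of (Localization.Away x)))
      (EtCoh.mu (Spec (CommRingCat.of (Localization.Away x))) n) q) := by
  obtain ⟨V, _, _, _, _, _, _, π, f, hπ, hfl, rfl⟩ := exists_dvr_source A x hx
  haveI : NeZero n := ⟨hn.ne'⟩
  letI := f.toAlgebra
  haveI : IsLocalHom (algebraMap V A) := hfl
  have hreg : CAlg.IsRegularHom V A := isRegularHom_of_dvr π hπ hx hx2
  have hind := TransLib.indSmooth_of_isRegularHom hreg
  let K := Localization.Away π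
  haveI := isFractionRing_away π hπ
  letI : Field K := IsFractionRing.toField V
  let W := Spec (CommRingCat.of K)
  let Y := Spec (CommRingCat.of (Localization.Away (f π)))
  let p : W ⟶ Spec (CommRingCat.of V) := Spec.map (CommRingCat.ofHom (algebraMap V K))
  let pY : Y ⟶ Spec (CommRingCat.of A) := Spec.map (CommRingCat.ofHom (algebraMap A (Localization.Away (f π))))
  let hb : Y ⟶ W := Spec.map (CommRingCat.ofHom (Localization.awayMap f π))
  have sq : IsPullback hb pY p (Spec.map (CommRingCat.ofHom (algebraMap V A))) := by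
    haveI : IsLocalization ((Submonoid.powers π).map f) (Localization.Away (f π)) := by
      rw [Submonoid.map_powers]; infer_instance
    have H : (Localization.awayMap f π).comp (algebraMap V K) = (algebraMap A (Localization.Away (f π))).comp f :=
      IsLocalization.map_comp (M := Submonoid.powers π) (T := Submonoid.powers (f π))
        (hy := fun y hy => by obtain ⟨m, rfl⟩ := hy; exact ⟨m, (map_pow f π m).symm⟩)
    exact (isPullback_SpecMap_of_isPushout _ _ _ _ (CommRingCat.isPushout_of_isLocalization f
      (Localization.awayMap f π) H (Submonoid.powers π))).flip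
  have hnV : IsUnit (n : V) := by
    rw [← IsLocalRing.notMem_maximalIdeal, ← residue_eq_zero_iff, map_natCast]
    exact Nat.cast_ne_zero.2 hn.ne'
  have hL : EtAcyc.IsLTorsion (EtAcyc.primesInvertibleOn (Spec (CommRingCat.of V))) (EtCoh.const W (ZMod n)) := by
    refine LocAcycPointLib.isLTorsion_const ⟨hn, fun r hr _ => ?_⟩
    have hqV : ∀ m : ℕ, m ≠ 0 → IsUnit (m : V) := fun m hm => by
      rw [← IsLocalRing.notMem_maximalIdeal, ← residue_eq_zero_iff, map_natCast]
      exact Nat.cast_ne_zero.2 hm
    refine ⟨hr, fun y h => ?_⟩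
    have h' := ((hqV r hr.ne_zero).map (Scheme.ΓSpecIso (CommRingCat.of V)).inv.hom).map
      ((Spec (CommRingCat.of V)).Γevaluation y).hom
    rw [map_natCast, map_natCast, h] at h'
    exact not_isUnit_zero h'
  have hbij := ((compN_indSmooth hind p hb pY sq q) _ hL).1 q le_rfl
  haveI : Subsingleton (EtCoh.H W (EtCoh.const W (ZMod n)) q) :=
    Groth.Agent.S4165.result V K ⟨inferInstance, inferInstance⟩ n hnV _
      (fun U s => by rw [← Groth.Agent.ConsEffaceLib.app_nsmul_id, CdOneLib.nsmul_id_const]; rfl) q hq
  obtain ⟨ζ, hζ⟩ := EtPBCProperLib.exists_root_cyclotomic V n hnV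
  let g : V →+* Γ(Y, ⊤) :=
    (Scheme.ΓSpecIso (CommRingCat.of (Localization.Away (f π)))).inv.hom.comp
      ((algebraMap A (Localization.Away (f π))).comp f)
  obtain ⟨eμ⟩ := MuConstLib.mu_iso_const Y n hn (by simpa using hnV.map g) (g ζ) (MuConstLib.aeval_map g hζ)
  haveI : Subsingleton ((EtCoh.HF Y q).obj ((EtCoh.pull hb).obj (EtCoh.const W (ZMod n)))) :=
    hbij.surjective.subsingleton
  exact ((EtCoh.HF Y q).mapIso ((EtCoh.pull hb).mapIso (Iso.refl _) ≪≫ EtCore.pullConst hb (ZMod n) ≪≫
    eμ.symm)).addCommGroupIsoToAddEquiv.toEquiv.symm.subsingleton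

end EtRegAcycLib
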