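import Groth.Agent.EtRegAcycLib.Main
import Groth.Agent.HensVanLib.Sec
import Groth.Agent.ConstHLib.Strict
import Groth.Agent.EtPBCProperLib.Point

/-!
# Regular homomorphisms of strictly henselian local rings
-/

set_option autoImplicit false
set_option linter.all false
set_option backward.isDefEq.respectTransparency false
set_option backward.isDefEq.respectTransparency.types false
set_option synthInstance.maxHeartbeats 400000
set_option maxHeartbeats 1600000

universe u

open CategoryTheory CategoryTheory.Limits CategoryTheory.Abelian AlgebraicGeometry Opposite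
open Groth.Agent Groth.Agent.EtShLib DescSecLib EtContLib

noncomputable section

namespace EtRegAcycLib

attribute [local instance] EtSliceLib.pullExact

/-- Restriction along a composition is bijective iff ... -/
theorem bijective_Hpull_comp_iff {A B C : Scheme.{u}} (f : A ⟶ B) (g : B ⟶ C) (h : A ⟶ C) (w : f ≫ g = h)
    (G : EtCoh.Ab C) (n : ℕ) (hf : Function.Bijective (EtCore.Hpull f ((EtCoh.pull g).obj G) n)) :
    Function.Bijective (EtCore.Hpull h G n) ↔ Function.Bijective (EtCore.Hpull g G n) := by
  let e := (etSys.c f g h w).app G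
  haveI : IsIso e := inferInstance
  let T := fun y : EtCoh.H A ((EtCoh.pull f).obj ((EtCoh.pull g).obj G)) n => y.comp (Ext.mk₀ e) (add_zero n)
  have hT : Function.Bijective T := by
    refine Function.bijective_iff_has_inverse.2 ⟨fun y => y.comp (Ext.mk₀ (inv e)) (add_zero n), fun y => ?_, fun y => ?_⟩
    · simp only [T, Ext.comp_assoc_of_third_deg_zero, Ext.mk₀_comp_mk₀, IsIso.hom_inv_id, Ext.comp_mk₀_id]
    · simp only [T, Ext.comp_assoc_of_third_deg_zero, Ext.mk₀_comp_mk₀, IsIso.inv_hom_id, Ext.comp_mk₀_id]
  rw [show (EtCore.Hpull h G n : _ → _) = (T ∘ EtCore.Hpull f _ n) ∘ EtCore.Hpull g G n from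
    funext fun x => (CovDevLib.Hpull_comp f g h w G n x).symm]
  exact Function.Bijective.of_comp_iff' (hT.comp hf) _

variable {A A' : Type u} [CommRing A] [CommRing A'] [HenselianLocalRing A] [HenselianLocalRing A']
  [IsSepClosed (IsLocalRing.ResidueField A)] [IsSepClosed (IsLocalRing.ResidueField A')]
  (φ : A →+* A') [IsLocalHom φ]

/-- A local homomorphism of strictly henselian rings is acyclic. -/
theorem bijective_Hpull_strict (F : EtCoh.Ab (Spec (CommRingCat.of A))) (q : ℕ) :
    Function.Bijective (EtCore.Hpull (Spec.map (CommRingCat.ofHom φ)) F q) := by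
  cases q with
  | succ q =>
    haveI := Groth.Agent.EtShLib.subsingleton_H A F (q + 1) (by omega)
    haveI := Groth.Agent.EtShLib.subsingleton_H A' ((EtCoh.pull (Spec.map (CommRingCat.ofHom φ))).obj F) (q + 1) (by omega)
    exact ⟨fun a b _ => Subsingleton.elim a b, fun b => ⟨0, Subsingleton.elim _ _⟩⟩
  | zero =>
    let π := Spec.map (CommRingCat.ofHom (IsLocalRing.residue A))
    let π' := Spec.map (CommRingCat.ofHom (IsLocalRing.residue A'))
    let t := Spec.map (CommRingCat.ofHom (IsLocalRing.ResidueField.map φ))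
    have w : π' ≫ Spec.map (CommRingCat.ofHom φ) = t ≫ π := by
      simp only [π, π', t, ← Spec.map_comp, ← CommRingCat.ofHom_comp]
      rfl
    have h1 : Function.Bijective (EtCore.Hpull (t ≫ π) F 0) :=
      (bijective_Hpull_comp_iff t π _ rfl F 0 (EtPBCProperLib.bijective_Hpull_point _ t _)).2
        (HensVanLib.bijective_Hpull_zero (IsLocalRing.maximalIdeal A) F)
    exact (bijective_Hpull_comp_iff π' (Spec.map (CommRingCat.ofHom φ)) _ w F 0
      (HensVanLib.bijective_Hpull_zero (IsLocalRing.maximalIdeal A') _)).1 h1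

/-- Cohomology is invariant under regular local extensions of strictly henselian rings. -/
theorem compN_indSmooth [Algebra A A'] [IsLocalHom (algebraMap A A')] (hind : Smoothing.IndSmooth A A')
    {X Y : Scheme.{u}} (p : X ⟶ Spec (CommRingCat.of A)) [QuasiCompact p] [QuasiSeparated p]
    (hb : Y ⟶ X) (pY : Y ⟶ Spec (CommRingCat.of A'))
    (sq : IsPullback hb pY p (Spec.map (CommRingCat.ofHom (algebraMap A A')))) (n : ℕ) :
    EtAcyc.CompN hb (EtAcyc.primesInvertibleOn (Spec (CommRingCat.of A))) n := by
  haveI : CompactSpace X := QuasiCompact.compactSpace_of_compactSpace p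
  haveI : QuasiSeparatedSpace X := quasiSeparatedSpace_of_quasiSeparated p
  have hS : IsPullback (Spec.map (CommRingCat.ofHom (algebraMap A A'))) (𝟙 _) (𝟙 _)
      (Spec.map (CommRingCat.ofHom (algebraMap A A'))) := IsPullback.of_vert_isIso ⟨by simp⟩
  refine EtBcQLib.compN_of_bc p (Spec.map (CommRingCat.ofHom (algebraMap A A'))) pY hb sq.w
    (fun F hF _ => ⟨fun q _ => bijective_Hpull_strict _ F q, (bijective_Hpull_strict _ F (n + 1)).1⟩) fun Fb hFb => ?_
  have h := fun q => isIso_bcQ_indSmooth hind (𝟙 _) p (Spec.map (CommRingCat.ofHom (algebraMap A A'))) (𝟙 _) hS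
    pY hb sq Fb hFb q
  exact ⟨fun i _ => h i, haveI := h (n + 1); inferInstance⟩

end EtRegAcycLib
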