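import Groth.Prelude.Def_Smoothing
import Mathlib.RingTheory.Smooth.Basic
import Mathlib.RingTheory.FinitePresentation
import Mathlib.AlgebraicGeometry.Morphisms.Smooth
import Mathlib.CategoryTheory.Limits.Types.Filtered
import Mathlib.CategoryTheory.Presentable.Directed
import Mathlib.RingTheory.TensorProduct.Maps

/-!
# An ind-smooth algebra as a directed colimit of smooth algebras
-/

set_option autoImplicit false
set_option linter.all false

universe u

open CategoryTheory CategoryTheory.Limits AlgebraicGeometry Opposite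
open scoped TensorProduct

noncomputable section

namespace EtRegAcycLib

variable (A B : Type u) [CommRing A] [CommRing B] [Algebra A B]

/-- A smooth algebra, presented, with a map to `B`. -/
structure SmPres : Type u where
  n : ℕ
  I : Ideal (MvPolynomial (Fin n) A)
  smooth : Algebra.Smooth A (MvPolynomial (Fin n) A ⧸ I)
  h : (MvPolynomial (Fin n) A ⧸ I) →ₐ[A] B

variable {A B}

/-- The underlying algebra. -/
abbrev SmPres.R (x : SmPres A B) : Type u := MvPolynomial (Fin x.n) A ⧸ x.I

instance : Category.{u} (SmPres A B) where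
  Hom x y := {f : x.R →ₐ[A] y.R // y.h.comp f = x.h}
  id x := ⟨AlgHom.id A _, AlgHom.comp_id _⟩
  comp {x y z} f g := ⟨g.1.comp f.1, by rw [← AlgHom.comp_assoc, g.2, f.2]⟩

variable (hind : Smoothing.IndSmooth A B)

include hind in
/-- Every map from a finitely presented algebra factors through an object. -/
theorem factor (P : Type u) [CommRing P] [Algebra A P] [hP : Algebra.FinitePresentation A P] (p : P →ₐ[A] B) :
    ∃ (j : SmPres A B) (g : P →ₐ[A] j.R), j.h.comp g = p := by
  obtain ⟨C, _, _, hC, g, h, hgh⟩ := hind P hP p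
  haveI := hC
  obtain ⟨n, f, hf, -⟩ := Algebra.Smooth.finitePresentation (R := A) (A := C)
  let e : (MvPolynomial (Fin n) A ⧸ RingHom.ker f) ≃ₐ[A] C := Ideal.quotientKerAlgEquivOfSurjective hf
  refine ⟨⟨n, RingHom.ker f, Algebra.Smooth.of_equiv e.symm, h.comp e.toAlgHom⟩, e.symm.toAlgHom.comp g, ?_⟩
  refine AlgHom.ext fun x => ?_
  show h (e (e.symm (g x))) = p x
  rw [e.apply_symm_apply, ← hgh]
  rfl

instance fp (x : SmPres A B) : Algebra.FinitePresentation A x.R := by
  haveI := x.smooth
  infer_instance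

include hind in
theorem exists_coeq {x y : SmPres A B} (f g : x ⟶ y) : ∃ (z : SmPres A B) (k : y ⟶ z), f ≫ k = g ≫ k := by
  classical
  let J : Ideal y.R := Ideal.span
    (Set.range fun i : Fin x.n => f.1 (Ideal.Quotient.mk x.I (MvPolynomial.X i)) - g.1 (Ideal.Quotient.mk x.I (MvPolynomial.X i)))
  have hJ : J.FG := Submodule.fg_span (Set.finite_range _)
  haveI : Algebra.FinitePresentation A (y.R ⧸ J) := Algebra.FinitePresentation.quotient hJ
  have hle : ∀ a ∈ J, y.h a = 0 := by
    intro a ha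
    refine (RingHom.mem_ker (f := y.h.toRingHom)).1 (Ideal.span_le.2 ?_ ha)
    rintro _ ⟨i, rfl⟩
    show y.h _ = 0
    rw [map_sub]
    exact sub_eq_zero.2 ((DFunLike.congr_fun f.2 _).trans (DFunLike.congr_fun g.2 _).symm)
  obtain ⟨z, k, hk⟩ := factor hind (y.R ⧸ J) (Ideal.Quotient.liftₐ J y.h hle)
  refine ⟨z, ⟨k.comp (Ideal.Quotient.mkₐ A J), ?_⟩, Subtype.ext ?_⟩
  · rw [← AlgHom.comp_assoc, hk]
    exact AlgHom.ext fun a => rfl
  · refine Ideal.Quotient.algHom_ext A (MvPolynomial.algHom_ext fun i => ?_)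
    refine congrArg k ((Ideal.Quotient.mk_eq_mk_iff_sub_mem _ _).2 ?_)
    exact Ideal.subset_span ⟨i, rfl⟩

include hind in
theorem exists_ub (x y : SmPres A B) : ∃ z : SmPres A B, Nonempty (x ⟶ z) ∧ Nonempty (y ⟶ z) := by
  haveI : Algebra.FinitePresentation A (x.R ⊗[A] y.R) := Algebra.FinitePresentation.trans A x.R (x.R ⊗[A] y.R)
  obtain ⟨z, k, hk⟩ := factor hind (x.R ⊗[A] y.R) (Algebra.TensorProduct.productMap x.h y.h)
  refine ⟨z, ⟨⟨k.comp Algebra.TensorProduct.includeLeft, ?_⟩⟩, ⟨⟨k.comp Algebra.TensorProduct.includeRight, ?_⟩⟩⟩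
  · rw [← AlgHom.comp_assoc, hk, Algebra.TensorProduct.productMap_left]
  · rw [← AlgHom.comp_assoc, hk, Algebra.TensorProduct.productMap_right]

include hind in
theorem isFiltered : IsFiltered (SmPres A B) := by
  obtain ⟨j, -, -⟩ := factor hind A (Algebra.ofId A B)
  exact
    { cocone_objs := fun x y => by
        obtain ⟨z, ⟨a⟩, ⟨b⟩⟩ := exists_ub hind x y
        exact ⟨z, a, b, trivial⟩
      cocone_maps := fun {x y} f g => exists_coeq hind f g
      nonempty := ⟨j⟩ }

/-- The underlying rings. -/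
def ringF : SmPres A B ⥤ CommRingCat.{u} where
  obj x := CommRingCat.of x.R
  map f := CommRingCat.ofHom f.1.toRingHom
  map_id _ := rfl
  map_comp _ _ := rfl

/-- The cocone with vertex `B`. -/
def ringC : Cocone (ringF (A := A) (B := B)) where
  pt := CommRingCat.of B
  ι :=
    { app := fun x => CommRingCat.ofHom x.h.toRingHom
      naturality := fun x y f => CommRingCat.hom_ext (RingHom.ext fun a => DFunLike.congr_fun f.2 a) }

include hind in
theorem ringC_isColimit : Nonempty (IsColimit (ringC (A := A) (B := B))) := by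
  haveI := isFiltered hind
  haveI : ReflectsColimit (ringF (A := A) (B := B)) (forget CommRingCat.{u}) :=
    reflectsColimit_of_reflectsIsomorphisms _ _
  refine ⟨isColimitOfReflects (forget CommRingCat) (Types.FilteredColimit.isColimitOf _ _ (fun (b : B) => ?_) ?_)⟩
  · obtain ⟨j, g, hg⟩ := factor hind (Polynomial A) (Polynomial.aeval b)
    refine ⟨j, g Polynomial.X, ?_⟩
    exact ((DFunLike.congr_fun hg Polynomial.X).trans (Polynomial.aeval_X b)).symm
  · intro x y a c h
    obtain ⟨z, ⟨u⟩, ⟨v⟩⟩ := exists_ub hind x y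
    let J : Ideal z.R := Ideal.span {u.1 a - v.1 c}
    haveI : Algebra.FinitePresentation A (z.R ⧸ J) :=
      Algebra.FinitePresentation.quotient (Submodule.fg_span_singleton _)
    have h' : x.h a = y.h c := h
    obtain ⟨w, k, hk⟩ := factor hind (z.R ⧸ J) (Ideal.Quotient.liftₐ J z.h fun t ht => by
      obtain ⟨s, rfl⟩ := Ideal.mem_span_singleton'.1 ht
      rw [map_mul, map_sub, show z.h (u.1 a) = x.h a from DFunLike.congr_fun u.2 a,
        show z.h (v.1 c) = y.h c from DFunLike.congr_fun v.2 c, h', sub_self, mul_zero])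
    have hz : z ⟶ w := ⟨k.comp (Ideal.Quotient.mkₐ A J), by
      rw [← AlgHom.comp_assoc, hk]
      exact AlgHom.ext fun t => rfl⟩
    refine ⟨w, u ≫ ⟨k.comp (Ideal.Quotient.mkₐ A J), by rw [← AlgHom.comp_assoc, hk]; exact AlgHom.ext fun t => rfl⟩,
      v ≫ ⟨k.comp (Ideal.Quotient.mkₐ A J), by rw [← AlgHom.comp_assoc, hk]; exact AlgHom.ext fun t => rfl⟩, ?_⟩
    show k (Ideal.Quotient.mk J (u.1 a)) = k (Ideal.Quotient.mk J (v.1 c))
    exact congrArg k ((Ideal.Quotient.mk_eq_mk_iff_sub_mem _ _).2 (Ideal.mem_span_singleton_self _))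

/-- The spectra over `Spec A`. -/
def specF : (SmPres A B)ᵒᵖ ⥤ Over (Spec (CommRingCat.of A)) where
  obj x := Over.mk (Spec.map (CommRingCat.ofHom (algebraMap A x.unop.R)))
  map {x y} f := Over.homMk (Spec.map ((ringF (A := A) (B := B)).map f.unop)) (by
    show Spec.map _ ≫ Spec.map _ = Spec.map _
    rw [← Spec.map_comp]
    exact congrArg Spec.map (CommRingCat.hom_ext (RingHom.ext fun a => f.unop.1.commutes a)))
  map_id x := Over.OverMorphism.ext (Spec.map_id _)
  map_comp f g := Over.OverMorphism.ext (by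
    show Spec.map _ = Spec.map _ ≫ Spec.map _
    rw [← Spec.map_comp]
    rfl)

theorem smooth_specF (x : (SmPres A B)ᵒᵖ) : Smooth ((specF (A := A) (B := B)).obj x).hom := by
  haveI := x.unop.smooth
  exact (HasRingHomProperty.Spec_iff (P := @Smooth)).mpr (RingHom.smooth_algebraMap.mpr inferInstance)

include hind in
/-- `Spec B` is a limit of smooth `A`-schemes over a directed index set. -/
theorem exists_sys : ∃ (ι : Type u) (_ : PartialOrder ι) (_ : IsDirected ι (· ≤ ·)) (_ : Nonempty ι)
    (D : ιᵒᵖ ⥤ Over (Spec (CommRingCat.of A))) (c : Cone (D ⋙ Over.forget _)) (_ : IsLimit c)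
    (e : c.pt = Spec (CommRingCat.of B)),
      (∀ i, c.π.app i ≫ (D.obj i).hom = eqToHom e ≫ Spec.map (CommRingCat.ofHom (algebraMap A B))) ∧
      (∀ i, Smooth (D.obj i).hom) ∧ (∀ ⦃i j : ιᵒᵖ⦄ (h : i ⟶ j), IsAffineHom (D.map h).left) := by
  haveI := isFiltered hind
  obtain ⟨ι, iP, iD, iN, F, hF⟩ := IsFiltered.exists_directed (SmPres A B)
  haveI := hF
  have hcol : IsColimit ((ringC (A := A) (B := B)).whisker F) :=
    (Functor.Final.isColimitWhiskerEquiv F _).symm (ringC_isColimit hind).some
  let c : Cone ((F.op ⋙ specF) ⋙ Over.forget (Spec (CommRingCat.of A))) :=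
    { pt := Spec (CommRingCat.of B)
      π :=
        { app := fun i => Spec.map (CommRingCat.ofHom (F.obj i.unop).h.toRingHom)
          naturality := fun i j h => (Scheme.Spec.mapCone ((ringC (A := A) (B := B)).whisker F).op).π.naturality h } }
  refine ⟨ι, iP, iD, iN, F.op ⋙ specF, c,
    IsLimit.ofIsoLimit (isLimitOfPreserves Scheme.Spec hcol.op) (Cone.ext (Iso.refl _) fun j => (Category.id_comp _).symm),
    rfl, fun i => ?_, fun i => smooth_specF _, fun i j h => inferInstanceAs (IsAffineHom (Spec.map _))⟩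
  rw [eqToHom_refl, Category.id_comp]
  show Spec.map _ ≫ Spec.map _ = Spec.map _
  rw [← Spec.map_comp]
  exact congrArg Spec.map (CommRingCat.hom_ext (RingHom.ext fun a => (F.obj i.unop).h.commutes a))

end EtRegAcycLib
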