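import Groth.Prelude.Def_EtDepth
import Groth.Agent.GRingLib.RegHom
import Groth.Agent.HensGRingLib.Basic
import Mathlib.AlgebraicGeometry.Morphisms.RingHomProperties
import Mathlib.AlgebraicGeometry.Noetherian

/-!
# Regular morphisms on affine opens
-/

set_option autoImplicit false
set_option linter.all false
set_option synthInstance.maxHeartbeats 400000

universe u

open CategoryTheory AlgebraicGeometry

noncomputable section

namespace EtRegAcycLib

/-- A regular homomorphism between Noetherian rings. -/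
def NoethReg {R S : Type u} [CommRing R] [CommRing S] (f : R →+* S) : Prop :=
  IsNoetherianRing R ∧ IsNoetherianRing S ∧ @CAlg.IsRegularHom R _ S _ f.toAlgebra

theorem noethReg_respectsIso : RingHom.RespectsIso @NoethReg.{u} := by
  refine ⟨fun {R S T} _ _ _ f e h => ?_, fun {R S T} _ _ _ f e h => ?_⟩
  · obtain ⟨hR, hS, hf⟩ := h
    haveI := hS
    refine ⟨hR, isNoetherianRing_of_ringEquiv S e, ?_⟩
    letI := f.toAlgebra
    letI := (e.toRingHom.comp f).toAlgebra
    exact HensGRingLib.isRegularHom_of_algEquiv (AlgEquiv.ofRingEquiv (f := e) fun _ => rfl) hf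
  · obtain ⟨hS, hT, hf⟩ := h
    haveI := hS
    haveI := hT
    refine ⟨isNoetherianRing_of_ringEquiv S e.symm, hT, ?_⟩
    letI := e.toRingHom.toAlgebra
    letI := f.toAlgebra
    letI := (f.comp e.toRingHom).toAlgebra
    haveI : IsScalarTower R S T := .of_algebraMap_eq fun _ => rfl
    haveI : IsLocalization (⊥ : Submonoid R) R := IsLocalization.self (by simp)
    haveI : IsLocalization (⊥ : Submonoid R) S := IsLocalization.isLocalization_of_algEquiv ⊥
      (AlgEquiv.ofRingEquiv (f := e) fun _ => rfl : R ≃ₐ[R] S)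
    exact GRingLib.isRegularHom_comp R S T (GRingLib.isRegularHom_of_isLocalization R S ⊥) hf

/-- A regular morphism induces regular homomorphisms on affine opens. -/
theorem isRegularHom_appLE {X X' : Scheme.{u}} [IsLocallyNoetherian X] [IsLocallyNoetherian X'] {g : X' ⟶ X}
    (hg : EtDepth.IsRegularMor g) {U : X.Opens} (hU : IsAffineOpen U) {V : X'.Opens} (hV : IsAffineOpen V)
    (e : V ≤ g ⁻¹ᵁ U) : @CAlg.IsRegularHom Γ(X, U) _ Γ(X', V) _ (g.appLE U V e).hom.toAlgebra := by
  haveI : IsNoetherianRing Γ(X', V) := IsLocallyNoetherian.component_noetherian ⟨V, hV⟩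
  letI := (g.appLE U V e).hom.toAlgebra
  refine GRingLib.isRegularHom_of_localRingHom _ _ fun n hn => ?_
  haveI := RingHom.toMorphismProperty_respectsIso_iff.mp noethReg_respectsIso.{u}
  let P := RingHom.toMorphismProperty @NoethReg.{u}
  let φ := g.appLE U V e
  let p : Spec Γ(X', V) := ⟨n, hn.isPrime⟩
  have h0 : P (g.stalkMap (hV.fromSpec p)) := ⟨inferInstance, inferInstance, hg _⟩
  have h1 : P ((hV.fromSpec ≫ g).stalkMap p) := by
    rw [Scheme.Hom.stalkMap_comp]
    exact (P.cancel_right_of_respectsIso _ _).2 h0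
  rw [Scheme.Hom.stalkMap_congr_hom _ _ (IsAffineOpen.SpecMap_appLE_fromSpec g hU hV e).symm,
    P.cancel_left_of_respectsIso, Scheme.Hom.stalkMap_comp] at h1
  have h2 : P ((Spec.map φ).stalkMap p) :=
    (P.cancel_left_of_respectsIso (hU.fromSpec.stalkMap ((Spec.map φ) p)) ((Spec.map φ).stalkMap p)).1 h1
  exact ((P.arrow_mk_iso_iff (Scheme.arrowStalkMapSpecIso φ p)).1 h2).2.2

end EtRegAcycLib
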