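import Groth.Agent.EtRegAcycLib.Algebra
import Groth.Agent.EtRegAcycLib.Regular
import Groth.Agent.EtLimSmoothLib.Acyclic
import Groth.Agent.TransLib.Popescu

/-!
# Regular morphisms over `ℚ` are universally locally acyclic
-/

set_option autoImplicit false
set_option linter.all false
set_option backward.isDefEq.respectTransparency false
set_option backward.isDefEq.respectTransparency.types false
set_option synthInstance.maxHeartbeats 400000
set_option maxHeartbeats 1600000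

universe u

open CategoryTheory CategoryTheory.Limits AlgebraicGeometry Opposite
open Groth.Agent Groth.Agent.EtShLib DescSecLib EtContLib EtBcLimLib

noncomputable section

namespace EtRegAcycLib

attribute [local instance] EtSliceLib.pullExact

/-- Base change along an ind-smooth homomorphism. -/
theorem isIso_bcQ_indSmooth {A B : Type u} [CommRing A] [CommRing B] [Algebra A B] (hind : Smoothing.IndSmooth A B)
    {T S T' S' : Scheme.{u}} (b : S ⟶ Spec (CommRingCat.of A)) (g : T ⟶ S) [QuasiCompact g] [QuasiSeparated g]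
    (p : S' ⟶ S) (b' : S' ⟶ Spec (CommRingCat.of B))
    (hS : IsPullback p b' b (Spec.map (CommRingCat.ofHom (algebraMap A B))))
    (g' : T' ⟶ S') (p' : T' ⟶ T) (hT : IsPullback p' g' g p)
    (F : EtCoh.Ab T) (hF : EtAcyc.IsLTorsion (EtAcyc.primesInvertibleOn (Spec (CommRingCat.of A))) F) (q : ℕ) :
    IsIso (EtBC.bcQ g p g' p' hT.w q F) := by
  obtain ⟨ι, iP, iD, iN, D₀, c₀, hc₀, e, hw, hsm, haff⟩ := exists_sys hind
  let D : ιᵒᵖ ⥤ Over S := D₀ ⋙ Over.pullback b
  have hS' : IsPullback p (b' ≫ eqToHom e.symm) b (eqToHom e ≫ Spec.map (CommRingCat.ofHom (algebraMap A B))) := by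
    refine hS.of_iso (Iso.refl _) (Iso.refl _) (eqToIso e.symm) (Iso.refl _) ?_ ?_ ?_ ?_ <;> simp
  let c : Cone (D ⋙ Over.forget S) :=
    EtLimSmoothLib.pbCone D₀ c₀ (eqToHom e ≫ Spec.map (CommRingCat.ofHom (algebraMap A B))) hw b
      (b' ≫ eqToHom e.symm) p hS'
  have hc : IsLimit c := EtLimSmoothLib.pbLimit D₀ c₀ hc₀ _ hw b (b' ≫ eqToHom e.symm) p hS'
  have hg : ∀ i, c.π.app i ≫ (D.obj i).hom = p := fun i => pullback.lift_snd _ _ _
  refine EtLimSmoothLib.isIso_bcQ D c hc p hg g g' p' hT (fun i => ?_) (fun i j h => ?_) F ?_ q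
  · exact MorphismProperty.pullback_snd _ _ (hsm i)
  · exact MorphismProperty.baseChange_map b (D₀.map h) (haff h)
  · intro U s x
    obtain ⟨V, a, m, hv, hm, hs⟩ := hF U s x
    exact ⟨V, a, m, hv, ⟨hm.1, fun r hr hd => EtLimSmoothLib.primesInvertibleOn_subset b (hm.2 r hr hd)⟩, hs⟩

/-- Base changes of ind-smooth morphisms are locally acyclic. -/
theorem isLocAcyclicN_baseChange {A B : Type u} [CommRing A] [CommRing B] [Algebra A B]
    (hind : Smoothing.IndSmooth A B)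
    (hL : ∃ ℓ ∈ EtAcyc.primesInvertibleOn (Spec (CommRingCat.of A)), ℓ.Prime)
    {X₁ Y₁ : Scheme.{u}} (g₁ : X₁ ⟶ Y₁) (b' : X₁ ⟶ Spec (CommRingCat.of B)) (b : Y₁ ⟶ Spec (CommRingCat.of A))
    (hsq : IsPullback b' g₁ (Spec.map (CommRingCat.ofHom (algebraMap A B))) b) (n : ℕ) :
    EtAcyc.IsLocAcyclicN g₁ (EtAcyc.primesInvertibleOn (Spec (CommRingCat.of A))) n := by
  refine EtBcBridgeLib.isLocAcyclicN_of_openBC hL ?_
  intro Y' X' i a g' sq hi hi' T Z j h e c hj hj' F hF q _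
  haveI := hj
  haveI := hj'
  exact isIso_bcQ_indSmooth hind (i ≫ b) j g' (a ≫ b') (sq.paste_horiz hsq).flip h e c F hF q

/-- Regular morphisms over `ℚ` are universally locally acyclic. -/
theorem isULocAcyclic_of_isRegularMor {X X' : Scheme.{u}} [IsLocallyNoetherian X] [IsLocallyNoetherian X']
    (qX : X ⟶ Spec (CommRingCat.of (ULift.{u} ℚ))) {g : X' ⟶ X} (hg : EtDepth.IsRegularMor g) :
    EtAcyc.IsULocAcyclic g (EtAcyc.primesInvertibleOn X) := by
  intro n X₁ Y₁ g₁ b' b h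
  refine EtSmAcycLib.isLocAcyclicN_of_cover g₁ _ n fun x => ?_
  obtain ⟨_, ⟨U, hU, rfl⟩, hxU, -⟩ := (X.isBasis_affineOpens).exists_subset_of_mem_open
    (Set.mem_univ (g.base (b'.base x))) isOpen_univ
  obtain ⟨V, hV, hxV, e⟩ := exists_isAffineOpen_mem_and_subset (X := X') (x := b'.base x) (U := g ⁻¹ᵁ U) hxU
  haveI : IsNoetherianRing Γ(X, U) := IsLocallyNoetherian.component_noetherian ⟨U, hU⟩
  haveI : IsNoetherianRing Γ(X', V) := IsLocallyNoetherian.component_noetherian ⟨V, hV⟩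
  letI := (g.appLE U V e).hom.toAlgebra
  have hind : Smoothing.IndSmooth Γ(X, U) Γ(X', V) := TransLib.indSmooth_of_isRegularHom (isRegularHom_appLE hg hU hV e)
  let Y' := pullback b hU.fromSpec
  let j : Y' ⟶ Y₁ := pullback.fst b hU.fromSpec
  let bq : Y' ⟶ Spec Γ(X, U) := pullback.snd b hU.fromSpec
  let T := pullback bq (Spec.map (g.appLE U V e))
  let h₁ : T ⟶ Y' := pullback.fst _ _
  let t : T ⟶ Spec Γ(X', V) := pullback.snd _ _
  have hA : IsPullback t h₁ (Spec.map (g.appLE U V e)) bq := (IsPullback.of_hasPullback _ _).flip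
  have hB : IsPullback (h₁ ≫ j) t b (hV.fromSpec ≫ g) := by
    rw [← IsAffineOpen.SpecMap_appLE_fromSpec g hU hV e]
    exact hA.flip.paste_horiz (IsPullback.of_hasPullback _ _)
  let η : T ⟶ X₁ := h.lift (t ≫ hV.fromSpec) (h₁ ≫ j) (by rw [Category.assoc, hB.w])
  have hη : η ≫ g₁ = h₁ ≫ j := h.lift_snd _ _ _
  have hC : IsPullback η t b' hV.fromSpec :=
    IsPullback.of_right (hη ▸ hB) (h.lift_fst _ _ _) h.flip
  have hQ : EtAcyc.primesInvertibleOn X ⊆ EtAcyc.primesInvertibleOn (Spec Γ(X, U)) :=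
    EtLimSmoothLib.primesInvertibleOn_subset hU.fromSpec
  obtain ⟨v, hv⟩ : b'.base x ∈ Set.range hV.fromSpec := hV.range_fromSpec.symm ▸ hxV
  obtain ⟨z, hz, -⟩ := Scheme.Pullback.exists_preimage_pullback (f := b') (g := hV.fromSpec) x v hv.symm
  refine ⟨T, η, MorphismProperty.of_isPullback hC.flip inferInstance, ⟨hC.isoPullback.inv z, ?_⟩, ?_⟩
  · rw [← hz, ← Scheme.Hom.comp_apply, hC.isoPullback_inv_fst]
  rw [hη]
  refine EtSmAcycLib.isLocAcyclicN_comp h₁ j _ n ?_ ?_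
  · refine EtSmAcycLib.isLocAcyclicN_mono h₁ hQ n (isLocAcyclicN_baseChange hind ?_ h₁ t bq hA n)
    obtain ⟨ℓ, h1, h2⟩ := EtLimSmoothLib.exists_prime_field (k := ULift.{u} ℚ)
    exact ⟨ℓ, EtLimSmoothLib.primesInvertibleOn_subset (hU.fromSpec ≫ qX) h1, h2⟩
  · exact EtSmAcycLib.isLocAcyclicN_mono j ((EtLimSmoothLib.primesInvertibleOn_subset b).trans
      (EtLimSmoothLib.primesInvertibleOn_subset j)) n (EtSmAcycLib.isLocAcyclic_of_smooth j n)

end EtRegAcycLib
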