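import Groth.Agent.EtRegAcycLib.DvrReg
import Groth.Agent.RegLocHomLib.Basic
import Groth.Agent.AdicFSLib.Main
import Groth.Agent.S9314
import Groth.Agent.S0541
import Groth.Agent.HensGRingLib.Strict
import Groth.Agent.TransLib.GRingLocal
import Groth.Agent.S0598
import Groth.Agent.GRingLib.FiniteType
import Groth.Agent.SMTLib.MaxHeight
import Mathlib.RingTheory.RegularLocalRing.Polynomial
import Mathlib.RingTheory.MvPolynomial.Ideal

/-!
# A strictly henselian regular ring mapping regularly onto part of a regular system of parameters
-/

set_option autoImplicit false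
set_option linter.all false
set_option backward.isDefEq.respectTransparency false
set_option backward.isDefEq.respectTransparency.types false
set_option synthInstance.maxHeartbeats 400000
set_option maxHeartbeats 1000000

universe u

open IsLocalRing TensorProduct

noncomputable section

namespace EtRegAcycLib

section Reg

variable {V A : Type u} [CommRing V] [IsRegularLocalRing V] [CharZero (ResidueField V)]
  [CommRing A] [IsRegularLocalRing A] [Algebra V A] [IsLocalHom (algebraMap V A)]

/-- Regular parameters going to regular parameters give a regular homomorphism. -/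
theorem isRegularHom_of_params (hV : CAlg.IsRegularHom V (AdicCompletion (maximalIdeal V) V))
    (hreg : IsRegularLocalRing (A ⧸ (maximalIdeal V).map (algebraMap V A)))
    (hdim : ringKrullDim A = ringKrullDim V + ringKrullDim (A ⧸ (maximalIdeal V).map (algebraMap V A))) :
    CAlg.IsRegularHom V A := by
  haveI := hreg
  haveI : Module.Flat V A := RegLocHomLib.flat_of_dim V A hdim
  refine Groth.Agent.S9314.result hV (AdicFSLib.adicFS_of_flat ?_)
  let p := maximalIdeal V
  haveI : IsRegularRing (A ⧸ p.map (algebraMap V A)) := CommAlgDim.isRegularRing_of_isRegularLocalRing _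
  let κ : (V ⧸ p) ≃ₐ[V] p.ResidueField :=
    AlgEquiv.ofBijective (IsScalarTower.toAlgHom V (V ⧸ p) p.ResidueField)
      p.bijective_algebraMap_quotient_residueField
  haveI : IsRegularRing (p.Fiber A) :=
    IsRegularRing.of_ringEquiv (((Algebra.TensorProduct.quotIdealMapEquivTensorQuot A p).toRingEquiv.trans
      (Algebra.TensorProduct.comm V A (V ⧸ p)).toRingEquiv).trans
      (Algebra.TensorProduct.congr κ AlgEquiv.refl).toRingEquiv)
  haveI : CharZero (V ⧸ p) := inferInstanceAs (CharZero (ResidueField V))
  haveI : CharZero p.ResidueField := charZero_of_injective_ringHom p.bijective_algebraMap_quotient_residueField.1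
  haveI : PerfectField p.ResidueField := inferInstance
  exact KaehlerFlatLib.isGeometricallyRegular_of_perfect

end Reg

/-- The ideal of the variables. -/
theorem ker_constantCoeff_eq (k : Type u) [CommRing k] (r : ℕ) :
    RingHom.ker (MvPolynomial.constantCoeff (σ := Fin r) (R := k)) = Ideal.span (Set.range MvPolynomial.X) := by
  show _ = MvPolynomial.idealOfVars (Fin r) k
  ext g
  rw [← pow_one (MvPolynomial.idealOfVars (Fin r) k), MvPolynomial.mem_pow_idealOfVars_iff', RingHom.mem_ker]
  refine ⟨fun h y hy => ?_, fun h => h 0 (by simp)⟩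
  rw [(Finsupp.degree_eq_zero_iff y).1 (by omega)]
  exact h

/-- A strictly henselian regular local ring sending a regular system of parameters to given elements. -/
theorem exists_param_source (A : Type u) [CommRing A] [IsRegularLocalRing A] [HenselianLocalRing A]
    [IsSepClosed (ResidueField A)] [Algebra ℚ A] (r : ℕ) (x : Fin r → A) (hx : ∀ i, x i ∈ maximalIdeal A) :
    ∃ (V : Type u) (_ : CommRing V) (_ : IsRegularLocalRing V) (_ : HenselianLocalRing V)
      (_ : IsSepClosed (ResidueField V)) (_ : CharZero (ResidueField V)) (t : Fin r → V) (f : V →+* A),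
      maximalIdeal V = Ideal.span (Set.range t) ∧ ringKrullDim V = r ∧
      CAlg.IsRegularHom V (AdicCompletion (maximalIdeal V) V) ∧ IsLocalHom f ∧ ∀ i, f (t i) = x i := by
  let k := ULift.{u} ℚ
  let P := MvPolynomial (Fin r) k
  let c : k →+* A := (algebraMap ℚ A).comp ULift.ringEquiv.toRingHom
  let p : Ideal P := RingHom.ker (MvPolynomial.constantCoeff (σ := Fin r) (R := k))
  haveI hp : p.IsMaximal := RingHom.ker_isMaximal_of_surjective _ fun a => ⟨MvPolynomial.C a, MvPolynomial.constantCoeff_C _ a⟩
  have hspan : p = Ideal.span (Set.range MvPolynomial.X) := ker_constantCoeff_eq k r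
  let R := Localization.AtPrime p
  haveI : IsRegularLocalRing R := IsRegularRing.isRegularLocalRing_localization p
  have hdimR : ringKrullDim R = r := by
    rw [IsLocalization.AtPrime.ringKrullDim_eq_height p R]
    rw [MaxHeight.mvPolynomial k r p]; rfl
  let t₀ : Fin r → R := fun i => algebraMap P R (MvPolynomial.X i)
  have hmax : maximalIdeal R = Ideal.span (Set.range t₀) := by
    rw [← Localization.AtPrime.map_eq_maximalIdeal]
    refine (congrArg (Ideal.map (algebraMap P R)) hspan).trans ?_
    rw [Ideal.map_span, ← Set.range_comp]
    rfl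
  let e : P →+* A := MvPolynomial.eval₂Hom c x
  have hres : (residue A).comp e = ((residue A).comp c).comp MvPolynomial.constantCoeff := by
    refine MvPolynomial.ringHom_ext (fun a => ?_) fun i => ?_
    · simp [e]
    · simp [e, (residue_eq_zero_iff _).2 (hx i)]
  have he : ∀ g : p.primeCompl, IsUnit (e g) := fun g => by
    rw [← IsLocalRing.notMem_maximalIdeal, ← residue_eq_zero_iff]
    intro h
    have h2 := RingHom.congr_fun hres (g : P)
    rw [RingHom.comp_apply, h] at h2
    exact g.2 (((residue A).comp c).injective (h2.symm.trans (map_zero _).symm))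
  let f₀ : R →+* A := IsLocalization.lift he
  have hft : ∀ i, f₀ (t₀ i) = x i := fun i =>
    (IsLocalization.lift_eq he _).trans (MvPolynomial.eval₂_X c x i)
  haveI : IsLocalHom f₀ := ⟨fun a ha => by
    by_contra hu
    have h1 : a ∈ maximalIdeal R := hu
    rw [hmax] at h1
    have hle : Ideal.span (Set.range t₀) ≤ (maximalIdeal A).comap f₀ := Ideal.span_le.2 (by
      rintro _ ⟨i, rfl⟩
      exact Ideal.mem_comap.2 ((hft i).symm ▸ hx i))
    have h2 : f₀ a ∈ maximalIdeal A := hle h1
    exact (mem_maximalIdeal _).1 h2 ha⟩
  let V := HenselLib.SH R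
  have hS : Hensel.IsStrictHenselization R V := inferInstance
  haveI := hS.henselian
  haveI : IsSepClosed (ResidueField V) := hS.isSepClosure.sep_closed
  haveI : IsNoetherianRing V := (Groth.Agent.S0540.result R V).1 inferInstance
  let t : Fin r → V := fun i => algebraMap R V (t₀ i)
  have hmV : maximalIdeal V = Ideal.span (Set.range t) := by
    rw [← PairHensLib.map_maximalIdeal_of_isStrictHenselization R V, hmax, Ideal.map_span, ← Set.range_comp]
    rfl
  have hdimV : ringKrullDim V = r := (Groth.Agent.S0541.result R V).trans hdimR
  haveI : IsRegularLocalRing V := IsRegularLocalRing.of_spanFinrank_maximalIdeal_le _ (by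
    rw [hdimV, hmV]
    have h3 : (Set.range t).ncard ≤ r := by
      rw [← Set.image_univ]
      exact (Set.ncard_image_le Set.finite_univ).trans (by simp)
    exact_mod_cast (Submodule.spanFinrank_span_le_ncard_of_finite (Set.finite_range t)).trans h3)
  obtain ⟨f, hfl, hf⟩ := LocAcycBCLib.exists_lift (O := R) (R := V) f₀
  haveI : CharZero k := charZero_of_injective_ringHom (ULift.ringEquiv.symm : ℚ ≃+* k).toRingHom.injective
  have hcz : CharZero (ResidueField V) :=
    charZero_of_injective_ringHom ((ResidueField.map (algebraMap R V)).comp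
      ((residue R).comp ((algebraMap P R).comp MvPolynomial.C))).injective
  have hG : CAlg.IsGRing R := GRingLib.isGRing_of_isLocalization P R p.primeCompl
    (GRingLib.isGRing_of_finiteType k (@Groth.Agent.S0598.result k _ _ _ (by rw [maximalIdeal_eq_bot]; infer_instance)) P)
  exact ⟨V, inferInstance, inferInstance, inferInstance, inferInstance, hcz, t, f, hmV, hdimV,
    HensGRingLib.isRegularHom_cpl_strictHenselization R V (TransLib.isRegularHom_completion_of_isGRing hG), hfl,
    fun i => (RingHom.congr_fun hf (t₀ i)).trans (hft i)⟩

end EtRegAcycLib
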