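import Groth.Agent.EtRegAcycLib.PurityOne
import Groth.Agent.EtRegAcycLib.ParamReg
import Groth.Agent.CovDevLib.Basis

/-!
# Complements of normal crossings in strictly local rings over `ℚ`
-/

set_option autoImplicit false
set_option linter.all false
set_option backward.isDefEq.respectTransparency false
set_option backward.isDefEq.respectTransparency.types false
set_option synthInstance.maxHeartbeats 400000
set_option maxHeartbeats 1600000

universe u

open CategoryTheory CategoryTheory.Limits AlgebraicGeometry Opposite IsLocalRing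
open Groth.Agent Groth.Agent.EtShLib DescSecLib

noncomputable section

namespace EtRegAcycLib

attribute [local instance] EtSliceLib.pullExact

/-- Bijectivity of the first map from that of the second and the composite. -/
theorem bijective_Hpull_left {X Y Z : Scheme.{u}} (f : X ⟶ Y) (g : Y ⟶ Z) (h : X ⟶ Z) (w : f ≫ g = h)
    (G : EtCoh.Ab Z) (q : ℕ) (hg : Function.Bijective (EtCore.Hpull g G q))
    (hh : Function.Bijective (EtCore.Hpull h G q)) :
    Function.Bijective (EtCore.Hpull f ((EtCoh.pull g).obj G) q) := by
  let e := (etSys.c f g h w).app G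
  haveI : IsIso e := inferInstance
  rw [show (EtCore.Hpull h G q : _ → _) =
      (fun y : EtCoh.H X ((EtCoh.pull f).obj ((EtCoh.pull g).obj G)) q => y.comp (Abelian.Ext.mk₀ e) (add_zero q)) ∘
        (EtCore.Hpull f _ q ∘ EtCore.Hpull g G q) from
    funext fun x => (CovDevLib.Hpull_comp f g h w G q x).symm] at hh
  exact (Function.Bijective.of_comp_iff _ hg).1
    ((Function.Bijective.of_comp_iff' (EtAcycLib.bijective_mk₀_iso_postcomp (asIso e) q) _).1 hh)

variable {V A A' : Type u} [CommRing V] [CommRing A] [CommRing A'] (f : V →+* A) (f' : V →+* A') (s : V)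

/-- The square cut out by inverting an element. -/
theorem isPullback_away :
    IsPullback (Spec.map (CommRingCat.ofHom (Localization.awayMap f s)))
      (Spec.map (CommRingCat.ofHom (algebraMap A (Localization.Away (f s)))))
      (Spec.map (CommRingCat.ofHom (algebraMap V (Localization.Away s)))) (Spec.map (CommRingCat.ofHom f)) := by
  haveI : IsLocalization ((Submonoid.powers s).map f) (Localization.Away (f s)) := by
    rw [Submonoid.map_powers]; infer_instance
  have H : (Localization.awayMap f s).comp (algebraMap V (Localization.Away s)) =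
      (algebraMap A (Localization.Away (f s))).comp f :=
    IsLocalization.map_comp (M := Submonoid.powers s) (T := Submonoid.powers (f s))
      (hy := fun y hy => by obtain ⟨m, rfl⟩ := hy; exact ⟨m, (map_pow f s m).symm⟩)
  exact (isPullback_SpecMap_of_isPushout _ _ _ _ (CommRingCat.isPushout_of_isLocalization f
    (Localization.awayMap f s) H (Submonoid.powers s))).flip

variable [IsRegularLocalRing V] [HenselianLocalRing V] [IsSepClosed (ResidueField V)] [CharZero (ResidueField V)]
  [HenselianLocalRing A] [IsSepClosed (ResidueField A)]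
  [HenselianLocalRing A'] [IsSepClosed (ResidueField A')]

/-- Pullback of the roots of unity along regular extensions. -/
theorem bijective_Hpull_away [IsNoetherianRing A] [IsNoetherianRing A'] (φ : A →+* A') (hf : IsLocalHom f)
    (hf' : IsLocalHom f') (hreg : @CAlg.IsRegularHom V _ A _ f.toAlgebra)
    (hreg' : @CAlg.IsRegularHom V _ A' _ f'.toAlgebra) (hφ : φ.comp f = f')
    (y : A) (hy : f s = y) (n : ℕ) (hn : 0 < n) (q : ℕ)
    [PreservesFiniteLimits (EtCoh.pull (Spec.map (CommRingCat.ofHom (Localization.awayMap φ y))))] :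
    Function.Bijective (EtCore.Hpull (Spec.map (CommRingCat.ofHom (Localization.awayMap φ y)))
      (EtCoh.mu (Spec (CommRingCat.of (Localization.Away y))) n) q) := by
  subst hy hφ
  haveI : NeZero n := ⟨hn.ne'⟩
  let K := Localization.Away s
  let W := Spec (CommRingCat.of K)
  let Y := Spec (CommRingCat.of (Localization.Away (f s)))
  let p : W ⟶ Spec (CommRingCat.of V) := Spec.map (CommRingCat.ofHom (algebraMap V K))
  let a : Spec (CommRingCat.of (Localization.Away (φ (f s)))) ⟶ Y :=
    Spec.map (CommRingCat.ofHom (Localization.awayMap φ (f s)))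
  let g : Y ⟶ W := Spec.map (CommRingCat.ofHom (Localization.awayMap f s))
  let h : Spec (CommRingCat.of (Localization.Away (φ (f s)))) ⟶ W :=
    Spec.map (CommRingCat.ofHom (Localization.awayMap (φ.comp f) s))
  have w : a ≫ g = h := by
    simp only [a, g, h, ← Spec.map_comp, ← CommRingCat.ofHom_comp]
    refine congrArg (fun t => Spec.map (CommRingCat.ofHom t)) (IsLocalization.ringHom_ext (Submonoid.powers s) ?_)
    refine RingHom.ext fun v => ?_
    simp [Localization.awayMap, IsLocalization.Away.map]
  have hnV : IsUnit (n : V) := by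
    rw [← IsLocalRing.notMem_maximalIdeal, ← residue_eq_zero_iff, map_natCast]
    exact Nat.cast_ne_zero.2 hn.ne'
  have hqV : ∀ m : ℕ, m ≠ 0 → IsUnit (m : V) := fun m hm => by
    rw [← IsLocalRing.notMem_maximalIdeal, ← residue_eq_zero_iff, map_natCast]
    exact Nat.cast_ne_zero.2 hm
  have hL : EtAcyc.IsLTorsion (EtAcyc.primesInvertibleOn (Spec (CommRingCat.of V))) (EtCoh.const W (ZMod n)) := by
    refine LocAcycPointLib.isLTorsion_const ⟨hn, fun r hr _ => ⟨hr, fun z h => ?_⟩⟩
    have h' := ((hqV r hr.ne_zero).map (Scheme.ΓSpecIso (CommRingCat.of V)).inv.hom).map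
      ((Spec (CommRingCat.of V)).Γevaluation z).hom
    rw [map_natCast, map_natCast, h] at h'
    exact not_isUnit_zero h'
  have hg : Function.Bijective (EtCore.Hpull g (EtCoh.const W (ZMod n)) q) := by
    letI := f.toAlgebra
    haveI : IsLocalHom (algebraMap V A) := hf
    exact ((compN_indSmooth (TransLib.indSmooth_of_isRegularHom hreg) p g _ (isPullback_away f s) q) _ hL).1 q le_rfl
  have hh : Function.Bijective (EtCore.Hpull h (EtCoh.const W (ZMod n)) q) := by
    letI := (φ.comp f).toAlgebra
    haveI : IsLocalHom (algebraMap V A') := hf'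
    exact ((compN_indSmooth (TransLib.indSmooth_of_isRegularHom hreg') p h _ (isPullback_away (φ.comp f) s) q) _ hL).1
      q le_rfl
  obtain ⟨ζ, hζ⟩ := EtPBCProperLib.exists_root_cyclotomic V n hnV
  let γ : V →+* Γ(Y, ⊤) :=
    (Scheme.ΓSpecIso (CommRingCat.of (Localization.Away (f s)))).inv.hom.comp
      ((algebraMap A (Localization.Away (f s))).comp f)
  obtain ⟨eμ⟩ := MuConstLib.mu_iso_const Y n hn (by simpa using hnV.map γ) (γ ζ) (MuConstLib.aeval_map γ hζ)
  exact CovDevLib.bijective_Hpull_of_iso_obj a (EtCore.pullConst g (ZMod n) ≪≫ eμ.symm) q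
    (bijective_Hpull_left a g h w (EtCoh.const W (ZMod n)) q hg hh)

end EtRegAcycLib
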